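import Groth.Agent.AlgStLib.Basic
import Groth.Prelude.Def_W4c2isonaturalstkIso

/-!
# Elements of the base change of a functor along an object, and the sheaf classifying them
-/

set_option autoImplicit false
set_option backward.isDefEq.respectTransparency false
set_option backward.isDefEq.respectTransparency.types false

universe u

open CategoryTheory CategoryTheory.Limits AlgebraicGeometry Opposite AlgSp FibCat FibLib AlgStLib
open CategoryTheory.Functor (Fiber IsPreFibered IsStronglyCartesian)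

namespace IsoNatLib

variable {S : Scheme.{u}} {𝒳 𝒴 : AlgSt.Cat S}

/-- An element over `T` of the base change of `f` along the object `z`. -/
structure Elt (f : 𝒳 ⥤ᵇ 𝒴) {V : Over S} (z : 𝒴.p.Fiber V) (T : Over S) where
  /-- the map to the base -/
  base : T ⟶ V
  /-- the object of the source -/
  obj : 𝒳.p.Fiber T
  /-- the map to `z` -/
  map : f.obj obj.1 ⟶ z.1
  lift : 𝒴.p.IsHomLift base map

variable {f : 𝒳 ⥤ᵇ 𝒴} {V : Over S} {z : 𝒴.p.Fiber V}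

/-- `E'` is a pullback of `E` along `c`. -/
def EHom {T' T : Over S} (c : T' ⟶ T) (E' : Elt f z T') (E : Elt f z T) : Prop :=
  ∃ k : E'.obj.1 ⟶ E.obj.1, 𝒳.p.IsHomLift c k ∧ f.map k ≫ E.map = E'.map

lemma eq_of_lifts {C : Type*} [Category C] {X : Type*} [Category X] (p : X ⥤ C) {R S' : C} {g g' : R ⟶ S'}
    {a b : X} (φ : a ⟶ b) (h : p.IsHomLift g φ) (h' : p.IsHomLift g' φ) : g = g' :=
  (@IsHomLift.fac _ _ _ _ p _ _ _ _ g φ h).trans (@IsHomLift.fac _ _ _ _ p _ _ _ _ g' φ h').symm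

lemma EHom.base_eq {T' T : Over S} {c : T' ⟶ T} {E' : Elt f z T'} {E : Elt f z T} (h : EHom c E' E) :
    E'.base = c ≫ E.base := by
  obtain ⟨k, hk, hk'⟩ := h
  haveI := hk
  haveI := E.lift
  haveI h1 : 𝒴.p.IsHomLift (c ≫ E.base) (f.map k ≫ E.map) := inferInstance
  rw [hk'] at h1
  exact eq_of_lifts 𝒴.p _ E'.lift h1

lemma EHom.comp {T'' T' T : Over S} {c' : T'' ⟶ T'} {c : T' ⟶ T} {E'' : Elt f z T''} {E' : Elt f z T'}
    {E : Elt f z T} (h' : EHom c' E'' E') (h : EHom c E' E) : EHom (c' ≫ c) E'' E := by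
  obtain ⟨k', hk', e'⟩ := h'
  obtain ⟨k, hk, e⟩ := h
  haveI := hk; haveI := hk'
  exact ⟨k' ≫ k, inferInstance, by rw [f.toFunctor.map_comp, Category.assoc, e, e']⟩

/-- The pullback of an element. -/
lemma exists_pullback_elt [IsFibGrpd 𝒳.p] {T' T : Over S} (c : T' ⟶ T) (E : Elt f z T) :
    ∃ E' : Elt f z T', EHom c E' E := by
  obtain ⟨b, k, hk⟩ := exists_lift 𝒳.p E.obj.2 c
  haveI := hk
  haveI := E.lift
  exact ⟨⟨c ≫ E.base, Fiber.mk (p := 𝒳.p) (IsHomLift.domain_eq 𝒳.p c k), f.map k ≫ E.map,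
    inferInstanceAs (𝒴.p.IsHomLift (c ≫ E.base) (f.map k ≫ E.map))⟩, k, hk, rfl⟩

/-- The sheaf `H` over `V` classifies the elements. -/
structure Classifier (f : 𝒳 ⥤ᵇ 𝒴) {V : Over S} (z : 𝒴.p.Fiber V) {H : Sp S} (a : H ⟶ (yon S).obj V) where
  /-- the classifying map -/
  cls : ∀ {T : Over S}, Elt f z T → ((yon S).obj T ⟶ H)
  cls_comp : ∀ {T : Over S} (E : Elt f z T), cls E ≫ a = (yon S).map E.base
  exists_elt : ∀ {T : Over S} (t : (yon S).obj T ⟶ H), ∃ E : Elt f z T, cls E = t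
  cls_map : ∀ {T' T : Over S} {c : T' ⟶ T} {E' : Elt f z T'} {E : Elt f z T},
    EHom c E' E → cls E' = (yon S).map c ≫ cls E
  ehom_of_eq : ∀ {T : Over S} {E' E : Elt f z T}, cls E' = cls E → EHom (𝟙 T) E' E

lemma Classifier.ehom_of_comp [IsFibGrpd 𝒳.p] {H : Sp S} {a : H ⟶ (yon S).obj V} (C : Classifier f z a)
    {T' T : Over S} {c : T' ⟶ T} {E' : Elt f z T'} {E : Elt f z T}
    (h : C.cls E' = (yon S).map c ≫ C.cls E) : EHom c E' E := by
  obtain ⟨E'', h''⟩ := exists_pullback_elt c E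
  simpa using (C.ehom_of_eq (h.trans (C.cls_map h'').symm)).comp h''

section Construction

variable [IsFibGrpd 𝒳.p] [IsFibGrpd 𝒴.p] (z)

/-- The functor of pullbacks of `z`. -/
noncomputable abbrev uf : AlgSt.ofSch V ⥤ᵇ 𝒴 := BasedFunctor.comp (AlgSt.toOverCat V) (ofPoint z)

/-- The projection from the chosen pullback. -/
noncomputable abbrev pbm {T : Over S} (π : T ⟶ V) : (uf z).obj ⟨T, ⟨π⟩⟩ ⟶ z.1 :=
  IsPreFibered.pullbackMap z.2 π

lemma pbm_lift {T : Over S} (π : T ⟶ V) : 𝒴.p.IsHomLift π (pbm z π) :=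
  inferInstanceAs (𝒴.p.IsHomLift π (IsPreFibered.pullbackMap z.2 π))

lemma uf_map_pbm {a b : (AlgSt.ofSch V).obj} (m : a ⟶ b) :
    (uf z).map m ≫ pbm z b.sec.down = pbm z a.sec.down :=
  pbMap_fac z m.hom (Over.w ((AlgSt.toOverCat V).map m))

variable {z}

lemma exists_eIso {T : Over S} (E : Elt f z T) :
    ∃ i : (uf z).obj ⟨T, ⟨E.base⟩⟩ ≅ f.obj E.obj.1,
      𝒴.p.IsHomLift (𝟙 T) i.hom ∧ i.hom ≫ E.map = pbm z E.base := by
  haveI := E.lift
  haveI := pbm_lift z E.base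
  let h := IsStronglyCartesian.map 𝒴.p E.base E.map (g := 𝟙 T) (f' := E.base) (Category.id_comp _).symm (pbm z E.base)
  haveI hh : 𝒴.p.IsHomLift (𝟙 T) h :=
    IsStronglyCartesian.map_isHomLift 𝒴.p E.base E.map (g := 𝟙 T) (f' := E.base) (Category.id_comp _).symm (pbm z E.base)
  haveI : IsIso h := isIso_of_isHomLift 𝒴.p (𝟙 T) h
  exact ⟨asIso h, hh, IsStronglyCartesian.fac 𝒴.p E.base E.map (g := 𝟙 T) (f' := E.base) (Category.id_comp _).symm (pbm z E.base)⟩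

/-- The isomorphism defined by an element. -/
noncomputable def eIso {T : Over S} (E : Elt f z T) : (uf z).obj ⟨T, ⟨E.base⟩⟩ ≅ f.obj E.obj.1 :=
  (exists_eIso E).choose

lemma eIso_lift {T : Over S} (E : Elt f z T) : 𝒴.p.IsHomLift (𝟙 T) (eIso E).hom :=
  (exists_eIso E).choose_spec.1

lemma eIso_map {T : Over S} (E : Elt f z T) : (eIso E).hom ≫ E.map = pbm z E.base :=
  (exists_eIso E).choose_spec.2

/-- The object of the fibre product defined by an element. -/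
noncomputable def eltObj {T : Over S} (E : Elt f z T) : (fp (uf z) f).obj :=
  fpObj ⟨T, ⟨E.base⟩⟩ E.obj.1 (eIso E) (eIso_lift E)

/-- The morphism of objects of the fibre product defined by a pullback of elements. -/
lemma exists_eltObj_hom {T' T : Over S} {c : T' ⟶ T} {E' : Elt f z T'} {E : Elt f z T} (h : EHom c E' E) :
    ∃ φ : eltObj E' ⟶ eltObj E, (fp (uf z) f).p.IsHomLift c φ := by
  have hb := h.base_eq
  obtain ⟨k, hk, hk'⟩ := h
  haveI := hk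
  let m : (eltObj E').obj.fst ⟶ (eltObj E).obj.fst := ⟨c, congrArg ULift.up hb.symm⟩
  haveI hm : (AlgSt.ofSch V).p.IsHomLift c m := IsHomLift.map (AlgSt.ofSch V).p m
  haveI := E.lift
  haveI := eIso_lift E
  haveI := eIso_lift E'
  haveI : 𝒴.p.IsHomLift c ((uf z).map m) := (uf z).preserves_isHomLift c m
  haveI : 𝒴.p.IsHomLift c ((uf z).map m ≫ (eIso E).hom) :=
    IsHomLift.comp_lift_id_right 𝒴.p c ((uf z).map m) (eIso E).hom
  haveI : 𝒴.p.IsHomLift c ((eIso E').hom ≫ f.map k) :=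
    IsHomLift.comp_lift_id_left 𝒴.p c (f.map k) (eIso E').hom
  have w : (uf z).map m ≫ (eIso E).hom = (eIso E').hom ≫ f.map k := by
    apply IsStronglyCartesian.ext 𝒴.p E.base E.map c
    rw [Category.assoc, Category.assoc, eIso_map, hk', eIso_map]
    exact uf_map_pbm z m
  let φ : eltObj E' ⟶ eltObj E := fpHom m k w
  haveI : (AlgSt.ofSch V).p.IsHomLift c φ.hom.fst := hm
  exact ⟨φ, isHomLift_of_fst c φ⟩

/-- Morphisms between the objects of elements are pullbacks of elements. -/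
lemma ehom_of_eltObj_hom {T' T : Over S} {c : T' ⟶ T} {E' : Elt f z T'} {E : Elt f z T}
    (ν : eltObj E' ⟶ eltObj E) (hν : (fp (uf z) f).p.IsHomLift c ν) : EHom c E' E := by
  haveI := hν
  refine ⟨ν.hom.snd, isHomLift_snd c ν, ?_⟩
  have w : (uf z).map ν.hom.fst ≫ (eIso E).hom = (eIso E').hom ≫ f.map ν.hom.snd := ν.hom.w
  rw [← cancel_epi (eIso E').hom]
  refine Eq.trans ?_ (eIso_map E').symm
  rw [← Category.assoc, ← w, Category.assoc, eIso_map]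
  exact uf_map_pbm z ν.hom.fst

/-- Every object of the fibre product comes from an element. -/
lemma exists_elt_of_obj (η : (fp (uf z) f).obj) :
    ∃ (E : Elt f z η.obj.fst.base) (μ : η ⟶ eltObj E), (fp (uf z) f).p.IsHomLift (𝟙 η.obj.fst.base) μ := by
  obtain ⟨⟨⟨T, ⟨π⟩⟩, x, i⟩, hi⟩ := η
  haveI hi' : 𝒴.p.IsHomLift (𝟙 T) i.hom := hi
  haveI : 𝒴.p.IsHomLift (𝟙 T) i.inv := @IsHomLift.lift_id_inv _ _ _ _ 𝒴.p _ _ _ i hi
  haveI := pbm_lift z π
  have hx : 𝒳.p.obj x = T := (f.w_obj x).symm.trans (IsHomLift.codomain_eq 𝒴.p (𝟙 T) i.hom)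
  let E : Elt f z T := ⟨π, Fiber.mk (p := 𝒳.p) (a := x) hx, i.inv ≫ pbm z π,
    IsHomLift.comp_lift_id_left 𝒴.p π (pbm z π) i.inv⟩
  haveI := E.lift
  haveI := eIso_lift E
  have hE : (eIso E).hom = i.hom := by
    haveI : 𝒴.p.IsHomLift (𝟙 T) (eIso E).hom := eIso_lift E
    apply IsStronglyCartesian.ext 𝒴.p π E.map (𝟙 T)
    rw [eIso_map]
    exact (i.hom_inv_id_assoc _).symm
  let m : (⟨T, ⟨π⟩⟩ : (AlgSt.ofSch V).obj) ⟶ (eltObj E).obj.fst := 𝟙 _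
  haveI : (AlgSt.ofSch V).p.IsHomLift (𝟙 T) m := IsHomLift.id rfl
  have w : (uf z).map m ≫ (eltObj E).obj.iso.hom = i.hom ≫ f.map (𝟙 x) := by
    change (uf z).map (𝟙 _) ≫ (eIso E).hom = i.hom ≫ f.map (𝟙 x)
    rw [(uf z).toFunctor.map_id, f.toFunctor.map_id, hE]
    erw [Category.comp_id, Category.id_comp]
  let φ : (⟨⟨⟨T, ⟨π⟩⟩, x, i⟩, hi⟩ : (fp (uf z) f).obj) ⟶ eltObj E := fpHom m (𝟙 x) w
  haveI : (AlgSt.ofSch V).p.IsHomLift (𝟙 T) φ.hom.fst := IsHomLift.id rfl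
  exact ⟨E, φ, isHomLift_of_fst (𝟙 T) φ⟩

variable {H : Sp S} (e : AlgSt.ofSp H ⥤ᵇ fp (uf z) f)

/-- `t` classifies `E`. -/
def Clf {T : Over S} (E : Elt f z T) (t : H.obj.obj (op T)) : Prop :=
  ∃ μ : e.obj ⟨T, t⟩ ⟶ eltObj E, (fp (uf z) f).p.IsHomLift (𝟙 T) μ

variable {e} (he : IsEquivOver e)

include he in
lemma sec_eq_of_hom {T' T : Over S} {t' : H.obj.obj (op T')} {t : H.obj.obj (op T)} (c : T' ⟶ T)
    (ν : e.obj ⟨T', t'⟩ ⟶ e.obj ⟨T, t⟩) (hν : (fp (uf z) f).p.IsHomLift c ν) :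
    t' = H.obj.map c.op t := by
  obtain ⟨⟨_, _⟩, -⟩ := (isEquivOver_iff e).mp he
  let m : (⟨T', t'⟩ : (AlgSt.ofSp H).obj) ⟶ ⟨T, t⟩ := e.toFunctor.preimage ν
  haveI : (fp (uf z) f).p.IsHomLift c (e.map m) := by
    simp only [m, Functor.map_preimage]; exact hν
  haveI : (AlgSt.ofSp H).p.IsHomLift c m := e.isHomLift_map c m
  have hm : c = m.hom := eq_of_lifts (AlgSt.ofSp H).p m ‹_› (IsHomLift.map (AlgSt.ofSp H).p m)
  rw [hm]
  exact m.map_sec.symm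

include he in
lemma clf_exists {T : Over S} (E : Elt f z T) : ∃ t, Clf e E t := by
  obtain ⟨ξ, ε, hε⟩ := vertEssSurj_of_isEquivOver he (eltObj E)
  haveI := hε
  have h : ξ.base = T := (e.w_obj ξ).symm.trans
    (IsHomLift.domain_eq (fp (uf z) f).p (𝟙 ((fp (uf z) f).p.obj (eltObj E))) ε.hom)
  obtain ⟨T₀, t⟩ := ξ
  change T₀ = T at h
  subst h
  exact ⟨t, ε.hom, hε⟩

include he in
lemma clf_map {T' T : Over S} {c : T' ⟶ T} {E' : Elt f z T'} {E : Elt f z T} (h : EHom c E' E)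
    {t' : H.obj.obj (op T')} {t : H.obj.obj (op T)} (ht' : Clf e E' t') (ht : Clf e E t) :
    t' = H.obj.map c.op t := by
  haveI : IsFibGrpd (fp (uf z) f).p := isFibGrpd_fp
  obtain ⟨μ', hμ'⟩ := ht'
  obtain ⟨μ, hμ⟩ := ht
  obtain ⟨φ, hφ⟩ := exists_eltObj_hom h
  haveI := hφ; haveI := hμ; haveI := hμ'
  haveI : IsIso μ := isIso_of_isHomLift (fp (uf z) f).p (𝟙 T) μ
  haveI : (fp (uf z) f).p.IsHomLift (𝟙 T) (asIso μ).inv :=
    @IsHomLift.lift_id_inv _ _ _ _ (fp (uf z) f).p _ _ _ (asIso μ) hμ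
  refine sec_eq_of_hom he c (μ' ≫ φ ≫ (asIso μ).inv) ?_
  haveI : (fp (uf z) f).p.IsHomLift c (φ ≫ (asIso μ).inv) := IsHomLift.comp_lift_id_right _ c φ _
  exact IsHomLift.comp_lift_id_left _ c (φ ≫ (asIso μ).inv) μ'

omit he in
lemma clf_ehom {T : Over S} {E' E : Elt f z T} {t : H.obj.obj (op T)} (h' : Clf e E' t) (h : Clf e E t) :
    EHom (𝟙 T) E' E := by
  haveI : IsFibGrpd (fp (uf z) f).p := isFibGrpd_fp
  obtain ⟨μ', hμ'⟩ := h'
  obtain ⟨μ, hμ⟩ := h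
  haveI := hμ; haveI := hμ'
  haveI : IsIso μ' := isIso_of_isHomLift (fp (uf z) f).p (𝟙 T) μ'
  haveI : (fp (uf z) f).p.IsHomLift (𝟙 T) (asIso μ').inv :=
    @IsHomLift.lift_id_inv _ _ _ _ (fp (uf z) f).p _ _ _ (asIso μ') hμ'
  let ν : eltObj E' ⟶ eltObj E := (asIso μ').inv ≫ μ
  haveI : (fp (uf z) f).p.IsHomLift (𝟙 T) ν := IsHomLift.comp_lift_id_left _ (𝟙 T) μ (asIso μ').inv
  exact ehom_of_eltObj_hom ν ‹_›

omit he in
lemma clf_comp {a : H ⟶ (yon S).obj V}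
    (β : BasedFunctor.comp e (fpFst (uf z) f) ≅ Stk.ofPshMap a.hom)
    {T : Over S} {E : Elt f z T} {t : H.obj.obj (op T)} (h : Clf e E t) :
    a.hom.app (op T) t = ⟨E.base⟩ := by
  obtain ⟨μ, hμ⟩ := h
  haveI := hμ
  haveI : (AlgSt.ofSch V).p.IsHomLift (𝟙 T) (appIso β ⟨T, t⟩).hom := appIso_lift β rfl
  haveI : (AlgSt.ofSch V).p.IsHomLift (𝟙 T) (appIso β ⟨T, t⟩).inv :=
    @IsHomLift.lift_id_inv _ _ _ _ (AlgSt.ofSch V).p _ _ _ (appIso β ⟨T, t⟩) (appIso_lift β rfl)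
  haveI : (AlgSt.ofSch V).p.IsHomLift (𝟙 T) μ.hom.fst := isHomLift_fst (𝟙 T) μ
  let ν : (Stk.ofPshMap a.hom).obj ⟨T, t⟩ ⟶ (eltObj E).obj.fst := (appIso β ⟨T, t⟩).inv ≫ μ.hom.fst
  haveI : (AlgSt.ofSch V).p.IsHomLift (𝟙 T) ν := IsHomLift.comp_lift_id_left _ (𝟙 T) μ.hom.fst _
  have hν : 𝟙 T = ν.hom := eq_of_lifts (AlgSt.ofSch V).p ν ‹_› (IsHomLift.map (AlgSt.ofSch V).p ν)
  have := ν.map_sec
  rw [← hν] at this
  exact this.symm.trans (congrArg ULift.up (Category.id_comp E.base))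

include he in
lemma clf_surj {a : H ⟶ (yon S).obj V}
    (β : BasedFunctor.comp e (fpFst (uf z) f) ≅ Stk.ofPshMap a.hom)
    {T : Over S} (t : H.obj.obj (op T)) : ∃ E : Elt f z T, Clf e E t := by
  let η := e.obj ⟨T, t⟩
  have hη : (AlgSt.ofSch V).p.obj η.obj.fst = T := e.w_obj ⟨T, t⟩
  have hi : 𝒴.p.IsHomLift (𝟙 T) η.obj.iso.hom := hη ▸ η.property
  haveI := hi
  haveI : 𝒴.p.IsHomLift (𝟙 T) η.obj.iso.inv := @IsHomLift.lift_id_inv _ _ _ _ 𝒴.p _ _ _ η.obj.iso hi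
  let π : T ⟶ V := (a.hom.app (op T) t).down
  let b : η.obj.fst ≅ (⟨T, ⟨π⟩⟩ : (AlgSt.ofSch V).obj) := appIso β ⟨T, t⟩
  have hb : (AlgSt.ofSch V).p.IsHomLift (𝟙 T) b.hom := appIso_lift β rfl
  haveI := hb
  haveI := pbm_lift z π
  haveI : 𝒴.p.IsHomLift (𝟙 T) ((uf z).map b.hom) := (uf z).preserves_isHomLift (𝟙 T) b.hom
  haveI h₁ : 𝒴.p.IsHomLift π ((uf z).map b.hom ≫ pbm z π) :=
    IsHomLift.comp_lift_id_left 𝒴.p π (pbm z π) _
  let E : Elt f z T := ⟨π, Fiber.mk (p := 𝒳.p) (a := η.obj.snd) ((obj_snd_eq η).trans hη),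
    η.obj.iso.inv ≫ (uf z).map b.hom ≫ pbm z π,
    IsHomLift.comp_lift_id_left 𝒴.p π _ η.obj.iso.inv⟩
  haveI : 𝒳.p.IsHomLift (𝟙 T) (𝟙 η.obj.snd) := IsHomLift.id ((obj_snd_eq η).trans hη)
  have w : (uf z).map b.hom ≫ (eIso E).hom = η.obj.iso.hom ≫ f.map (𝟙 η.obj.snd) := by
    haveI := E.lift
    haveI := eIso_lift E
    haveI : 𝒴.p.IsHomLift (𝟙 T) ((uf z).map b.hom ≫ (eIso E).hom) :=
      IsHomLift.comp_lift_id_right 𝒴.p (𝟙 T) ((uf z).map b.hom) (eIso E).hom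
    haveI : 𝒴.p.IsHomLift (𝟙 T) (η.obj.iso.hom ≫ f.map (𝟙 η.obj.snd)) :=
      IsHomLift.comp_lift_id_right 𝒴.p (𝟙 T) η.obj.iso.hom (f.map (𝟙 η.obj.snd))
    apply IsStronglyCartesian.ext 𝒴.p π E.map (𝟙 T)
    rw [Category.assoc, eIso_map, f.toFunctor.map_id]
    erw [Category.comp_id]
    exact (η.obj.iso.hom_inv_id_assoc _).symm
  let μ : η ⟶ eltObj E := fpHom b.hom (𝟙 η.obj.snd) w
  haveI : (AlgSt.ofSch V).p.IsHomLift (𝟙 T) μ.hom.fst := hb
  exact ⟨E, μ, isHomLift_of_fst (𝟙 T) μ⟩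

end Construction

/-- A representable functor has classifying sheaves, with the property of the functor. -/
theorem exists_classifier [IsFibGrpd 𝒳.p] [IsFibGrpd 𝒴.p] {P : MorphismProperty (Sp S)} {f : 𝒳 ⥤ᵇ 𝒴}
    (hf : AlgSt.RepByAlgSpWith P f) {V : Over S} (z : 𝒴.p.Fiber V) :
    ∃ (H : Sp S) (a : H ⟶ (yon S).obj V), IsAlgSpace H ∧ P a ∧ Along (uf z) f a.hom ∧
      Nonempty (Classifier f z a) := by
  obtain ⟨H, a, hH, ha, hP⟩ := (repByAlgSpWith_iff P f).mp hf V (uf z)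
  obtain ⟨e, he, ⟨β⟩⟩ := id ha
  refine ⟨H, a, hH, hP, ha, ⟨{
    cls := fun {T} E => (J S).uliftYonedaEquiv.symm (clf_exists he E).choose
    cls_comp := fun {T} E => ?_
    exists_elt := fun {T} t => ?_
    cls_map := fun {T' T c E' E} h => ?_
    ehom_of_eq := fun {T E' E} h => ?_ }⟩⟩
  · rw [GrothendieckTopology.uliftYonedaEquiv_symm_naturality_right]
    apply (J S).uliftYonedaEquiv.injective
    rw [Equiv.apply_symm_apply]
    exact (clf_comp β (clf_exists he E).choose_spec).trans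
      (GrothendieckTopology.uliftYonedaEquiv_uliftYoneda_map _ E.base).symm
  · obtain ⟨E, hE⟩ := clf_surj he β ((J S).uliftYonedaEquiv t)
    refine ⟨E, ?_⟩
    have e1 := clf_map he (⟨𝟙 _, IsHomLift.id E.obj.2, by simp⟩ : EHom (𝟙 T) E E)
      (clf_exists he E).choose_spec hE
    rw [e1, op_id, Functor.map_id_apply, Equiv.symm_apply_apply]
  · rw [clf_map he h (clf_exists he E').choose_spec (clf_exists he E).choose_spec]
    exact (GrothendieckTopology.uliftYonedaEquiv_symm_naturality_left _ c H _).symm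
  · have h' := (J S).uliftYonedaEquiv.symm.injective h
    exact clf_ehom (clf_exists he E').choose_spec (h' ▸ (clf_exists he E).choose_spec)

/-- Every chart is the chart of pullbacks of its value at the identity. -/
lemma nonempty_uf_iso [IsFibGrpd 𝒴.p] (u : AlgSt.ofSch V ⥤ᵇ 𝒴) :
    Nonempty (uf (Fiber.mk (p := 𝒴.p) (a := u.obj ⟨V, ⟨𝟙 V⟩⟩) (u.w_obj _)) ≅ u) := by
  set z : 𝒴.p.Fiber V := Fiber.mk (p := 𝒴.p) (a := u.obj ⟨V, ⟨𝟙 V⟩⟩) (u.w_obj _) with hz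
  obtain ⟨k⟩ := nonempty_evalAtId_ofPoint_iso z
  let e : (ofPoint z).obj (Over.mk (𝟙 V)) ≅ (BasedFunctor.comp (AlgSt.ofOverCat V) u).obj (Over.mk (𝟙 V)) :=
    ⟨k.hom.1, k.inv.1, congrArg Subtype.val k.hom_inv_id, congrArg Subtype.val k.inv_hom_id⟩
  obtain ⟨α⟩ := nonempty_iso_of_vert (ofPoint z) (BasedFunctor.comp (AlgSt.ofOverCat V) u) e k.hom.2
  exact ⟨whiskerLeftIso' (AlgSt.toOverCat V) α⟩

end IsoNatLib
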