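import Mathlib
import Groth.Agent.AlgStLib.SmST
import Groth.Agent.FlatLib.SmoothSource

/-!
# Retracts of morphisms which are smooth or locally of finite presentation
-/

set_option autoImplicit false

universe u

open CategoryTheory AlgebraicGeometry

namespace IsoNatLib

theorem ker_fg_of_section {R A B : Type u} [CommRing R] [CommRing A] [CommRing B] [Algebra R A] [Algebra R B]
    [Algebra.FiniteType R B] (s : B →ₐ[R] A) (i : A →ₐ[R] B) (h : s.comp i = AlgHom.id R A) :
    (RingHom.ker s.toRingHom).FG := by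
  classical
  obtain ⟨t, ht⟩ := ‹Algebra.FiniteType R B›.1
  let J : Ideal B := Ideal.span (t.image fun b => b - i (s b) : Finset B)
  have hJ : J ≤ RingHom.ker s.toRingHom := by
    refine Ideal.span_le.2 fun b hb => ?_
    obtain ⟨b₀, -, rfl⟩ := Finset.mem_image.1 hb
    show s (b₀ - i (s b₀)) = 0
    rw [map_sub, show s (i (s b₀)) = s b₀ from AlgHom.congr_fun h _, sub_self]
  have e : Ideal.Quotient.mkₐ R J = ((Ideal.Quotient.mkₐ R J).comp i).comp s := by
    refine AlgHom.ext_of_adjoin_eq_top ht fun b hb => ?_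
    exact Ideal.Quotient.eq.2 (Ideal.subset_span (Finset.mem_image_of_mem _ hb))
  refine ⟨t.image fun b => b - i (s b), le_antisymm hJ fun b hb => ?_⟩
  have := AlgHom.congr_fun e b
  rw [AlgHom.comp_apply, AlgHom.comp_apply] at this
  change Ideal.Quotient.mk J b = Ideal.Quotient.mk J (i (s b)) at this
  rw [show s b = 0 from hb, map_zero, map_zero] at this
  exact Ideal.Quotient.eq_zero_iff_mem.1 this

theorem finitePresentation_retract {R A B : Type u} [CommRing R] [CommRing A] [CommRing B]
    (φ : R →+* A) (i : A →+* B) (s : B →+* A) (h : s.comp i = RingHom.id A)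
    (hi : (i.comp φ).FinitePresentation) : φ.FinitePresentation := by
  algebraize [φ, i.comp φ]
  let i' : A →ₐ[R] B := { i with commutes' := fun _ => rfl }
  let s' : B →ₐ[R] A := { s with commutes' := fun r => RingHom.congr_fun h (φ r) }
  have h' : s'.comp i' = AlgHom.id R A := AlgHom.ext fun a => RingHom.congr_fun h a
  exact Algebra.FinitePresentation.of_surjective (f := s')
    (fun a => ⟨i a, RingHom.congr_fun h a⟩) (ker_fg_of_section s' i' h')

theorem smooth_retract {R A B : Type u} [CommRing R] [CommRing A] [CommRing B]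
    (φ : R →+* A) (i : A →+* B) (s : B →+* A) (h : s.comp i = RingHom.id A)
    (hi : (i.comp φ).Smooth) : φ.Smooth := by
  algebraize [φ, i.comp φ]
  let i' : A →ₐ[R] B := { i with commutes' := fun _ => rfl }
  let s' : B →ₐ[R] A := { s with commutes' := fun r => RingHom.congr_fun h (φ r) }
  have h' : s'.comp i' = AlgHom.id R A := AlgHom.ext fun a => RingHom.congr_fun h a
  haveI : Algebra.FinitePresentation R A :=
    Algebra.FinitePresentation.of_surjective (f := s') (fun a => ⟨i a, RingHom.congr_fun h a⟩)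
      (ker_fg_of_section s' i' h')
  haveI : Algebra.FormallySmooth R A :=
    Algebra.FormallySmooth.of_split s' ((Ideal.Quotient.mkₐ R _).comp i') (AlgHom.ext fun a =>
      RingHom.congr_fun h a)
  show Algebra.Smooth R A
  exact ⟨inferInstance, inferInstance⟩

theorem appLE_eq_id {X : Scheme.{u}} {q : X ⟶ X} (hq : q = 𝟙 X) {U : X.Opens} (e : U ≤ q ⁻¹ᵁ U) :
    q.appLE U U e = 𝟙 _ := by
  subst hq
  change 𝟙 _ ≫ X.presheaf.map (homOfLE e).op = 𝟙 _
  rw [Category.id_comp]
  exact (congrArg X.presheaf.map (Subsingleton.elim _ (𝟙 _))).trans (X.presheaf.map_id _)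

/-- A retract over the base of a morphism with a property given by ring maps has the property. -/
theorem of_retract {P : MorphismProperty Scheme.{u}}
    {Q : ∀ {R S : Type u} [CommRing R] [CommRing S], (R →+* S) → Prop} [HasRingHomProperty P Q]
    (hQ : ∀ {R A B : Type u} [CommRing R] [CommRing A] [CommRing B] (φ : R →+* A) (i : A →+* B)
      (s : B →+* A), s.comp i = RingHom.id A → Q (i.comp φ) → Q φ)
    (hQs : RingHom.StableUnderCompositionWithLocalizationAway Q)
    {X Y Z : Scheme.{u}} (g : X ⟶ Z) (pr : Y ⟶ X) (σ : X ⟶ Y) (hσ : σ ≫ pr = 𝟙 X) (h : P (pr ≫ g)) :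
    P g := by
  rw [HasRingHomProperty.iff_exists_appLE (P := P) hQs.left]
  intro x
  obtain ⟨U, hU, hxU, -⟩ := exists_isAffineOpen_mem_and_subset (U := (⊤ : Z.Opens)) (x := g x) trivial
  obtain ⟨D, hD, hxD, hDU⟩ := exists_isAffineOpen_mem_and_subset (U := g ⁻¹ᵁ U) (x := x) hxU
  have hx' : pr (σ x) = x := by rw [← Scheme.Hom.comp_apply, hσ]; rfl
  obtain ⟨O, hO, hxO, hOD⟩ := exists_isAffineOpen_mem_and_subset (U := pr ⁻¹ᵁ D) (x := σ x)
    (show pr (σ x) ∈ D by rw [hx']; exact hxD)
  obtain ⟨f, hfO, hxf⟩ := hD.exists_basicOpen_le (V := σ ⁻¹ᵁ O) ⟨x, hxO⟩ hxD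
  let D' := X.basicOpen f
  let O' := Y.basicOpen (pr.appLE D O hOD f)
  have hO'eq : O' = O ⊓ pr ⁻¹ᵁ D' := Scheme.basicOpen_appLE pr O D hOD f
  have hD' : IsAffineOpen D' := hD.basicOpen f
  have hO' : IsAffineOpen O' := hO.basicOpen _
  have e₁ : O' ≤ pr ⁻¹ᵁ D' := hO'eq.le.trans inf_le_right
  have e₂ : D' ≤ σ ⁻¹ᵁ O' := fun y hy => by
    show σ y ∈ O'
    rw [hO'eq]
    refine ⟨hfO hy, ?_⟩
    show pr (σ y) ∈ D'
    rw [← Scheme.Hom.comp_apply, hσ]
    exact hy
  have e₃ : D' ≤ g ⁻¹ᵁ U := (X.basicOpen_le f).trans hDU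
  refine ⟨⟨U, hU⟩, ⟨D', hD'⟩, hxf, e₃, hQ _ (pr.appLE D' O' e₁).hom (σ.appLE O' D' e₂).hom ?_ ?_⟩
  · rw [← CommRingCat.hom_comp, Scheme.Hom.appLE_comp_appLE]
    exact congrArg CommRingCat.Hom.hom ((appLE_eq_id hσ _).trans rfl)
  · rw [← CommRingCat.hom_comp, Scheme.Hom.appLE_comp_appLE]
    exact HasRingHomProperty.appLE P (pr ≫ g) h ⟨U, hU⟩ ⟨O', hO'⟩ _

/-- The scheme properties to be transported along isomorphisms of presheaves of classes. -/
structure GoodSch (P : MorphismProperty Scheme.{u}) : Prop where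
  comp : P.IsStableUnderComposition
  bc : P.IsStableUnderBaseChange
  smooth_le : (@Smooth : MorphismProperty Scheme.{u}) ≤ P
  descent : ∀ {U' U Y : Scheme.{u}} (π : U' ⟶ U) (k : U ⟶ Y) [Smooth π] [Surjective π], P (π ≫ k) → P k
  retract : ∀ {X Y Z : Scheme.{u}} (g : X ⟶ Z) (pr : Y ⟶ X) (σ : X ⟶ Y), σ ≫ pr = 𝟙 X → P (pr ≫ g) → P g

theorem goodSch_smooth : GoodSch (@Smooth : MorphismProperty Scheme.{u}) where
  comp := inferInstance
  bc := inferInstance
  smooth_le := le_refl _
  descent π k _ _ h := AlgStLib.of_smooth_surjective_comp (P := @Smooth) (Q := RingHom.Smooth)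
    (fun {R A B} _ _ _ φ ψ h1 h2 h3 => by
      algebraize [φ, ψ, ψ.comp φ]
      exact FlatLib.smooth_of_fppf_comp_algebra R A B) π k h
  retract g pr σ hσ h := of_retract (P := @Smooth) (Q := RingHom.Smooth)
    (fun φ i s e hh => smooth_retract φ i s e hh) (RingHom.Smooth.stableUnderComposition.stableUnderCompositionWithLocalizationAway RingHom.Smooth.holdsForLocalizationAway) g pr σ hσ h

theorem goodSch_lfp : GoodSch (@LocallyOfFinitePresentation : MorphismProperty Scheme.{u}) where
  comp := inferInstance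
  bc := inferInstance
  smooth_le := fun _ _ f (_ : Smooth f) => (inferInstance : LocallyOfFinitePresentation f)
  descent π k _ _ h := AlgStLib.of_smooth_surjective_comp (P := @LocallyOfFinitePresentation)
    (Q := RingHom.FinitePresentation)
    (fun {R A B} _ _ _ φ ψ h1 h2 h3 => by
      algebraize [φ, ψ, ψ.comp φ]
      exact AlgSpLib.finitePresentation_of_smooth_faithfullyFlat_comp R A B) π k h
  retract g pr σ hσ h := of_retract (P := @LocallyOfFinitePresentation) (Q := RingHom.FinitePresentation)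
    (fun φ i s e hh => finitePresentation_retract φ i s e hh) (RingHom.finitePresentation_stableUnderComposition.stableUnderCompositionWithLocalizationAway RingHom.finitePresentation_holdsForLocalizationAway) g pr σ hσ h

end IsoNatLib
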