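import Groth.Agent.IsoNatLib.Cls
import Groth.Agent.IsoNatLib.Elt
import Groth.Agent.IsoNatLib.Retract
import Groth.Agent.AlgStLib.Descent
import Groth.Agent.AlgSpLib.LocP

/-!
# Representable functors with isomorphic maps of presheaves of classes share their good properties
-/

set_option autoImplicit false
set_option backward.isDefEq.respectTransparency false
set_option backward.isDefEq.respectTransparency.types false

universe u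

open CategoryTheory CategoryTheory.Limits AlgebraicGeometry Opposite AlgSp FibCat FibLib AlgStLib IsoNat
open CategoryTheory.Functor (Fiber IsStronglyCartesian)

namespace IsoNatLib

variable {S : Scheme.{u}}

lemma surjective_left_of_isSurjectiveMor {U V : Over S} {h : U ⟶ V} (H : IsSurjectiveMor ((yon S).map h)) :
    Surjective h.left := ⟨fun v => by
  obtain ⟨p, hp⟩ := H (Points.schemeEquiv V v)
  obtain ⟨z, rfl⟩ := (Points.schemeEquiv U).surjective p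
  replace hp := (Points.map_yon_map_apply h z).symm.trans hp
  exact ⟨z, (Points.schemeEquiv V).injective hp⟩⟩

lemma isHomLift_toId {𝒳 : AlgSt.Cat S} {V : Over S} (w : overCat V ⥤ᵇ 𝒳) {T : Over S} (o : Over V)
    (hT : o.left = T) : 𝒳.p.IsHomLift (eqToHom hT.symm ≫ o.hom) (w.map (toId o)) := by
  subst hT
  simpa using lift_map w (toId o)

/-- The descent of a good property to the base of a covering with a section into a scheme with the property. -/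
theorem prop_of_retract {P : MorphismProperty Scheme.{u}} (hG : GoodSch P) {T Y U V : Scheme.{u}} (c : T ⟶ U)
    [Smooth c] [Surjective c] (p : Y ⟶ U) (h : U ⟶ V) (hp : P (p ≫ h)) (s : T ⟶ Y) (hs : s ≫ p = c) : P h := by
  refine hG.descent c h (hG.retract (c ≫ h) (pullback.fst c p) (pullback.lift (𝟙 T) s (by rw [hs, Category.id_comp]))
    (pullback.lift_fst _ _ _) ?_)
  rw [pullback.condition_assoc]
  haveI := hG.comp
  exact P.comp_mem _ _ (hG.smooth_le _ _ _ (inferInstanceAs (Smooth (pullback.snd c p)))) hp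

/-- Charts of classifying sheaves give universal elements. -/
theorem exists_universal {𝒳 𝒴 : AlgSt.Cat S} [IsFibGrpd 𝒳.p] [IsFibGrpd 𝒴.p] {P : MorphismProperty (Sp S)}
    {f : 𝒳 ⥤ᵇ 𝒴} (hf : AlgSt.RepByAlgSpWith P f) {V : Over S} (z : 𝒴.p.Fiber V) :
    ∃ (Q : Over S) (E₀ : Elt f z Q) (H : Sp S) (a : H ⟶ (yon S).obj V) (q : (yon S).obj Q ⟶ H),
      (P a ∧ RepWith @Etale q ∧ RepWith @Surjective q ∧ q ≫ a = (yon S).map E₀.base) ∧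
      ∀ (T : Over S) (E : Elt f z T), ∃ (T' : Over S) (c : T' ⟶ T) (r : T' ⟶ Q) (E' : Elt f z T'),
        Etale c.left ∧ Surjective c.left ∧ EHom c E' E ∧ EHom r E' E₀ := by
  obtain ⟨H, a, hH, hP, -, ⟨C⟩⟩ := exists_classifier hf z
  obtain ⟨Q, q, hq, hqs⟩ := hH.atlas
  obtain ⟨E₀, hE₀⟩ := C.exists_elt q
  refine ⟨Q, E₀, H, a, q, ⟨hP, hq, hqs, by rw [← hE₀, C.cls_comp]⟩, fun T E => ?_⟩
  obtain ⟨T', r, c, sq⟩ := AlgSpLib.exists_isPullback_yon q (C.cls E) hq.rep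
  obtain ⟨E', hE'⟩ := exists_pullback_elt c E
  refine ⟨T', c, r, E', AlgSpLib.etale_left (AlgSpLib.repWith_of_isPullback sq hq),
    AlgSpLib.surjective_left (AlgSpLib.repWith_of_isPullback sq hqs), hE', C.ehom_of_comp ?_⟩
  rw [C.cls_map hE', ← sq.w, hE₀]

/-- The universal element of `f'` obtained from universal elements of `f` and of a chart `w` of the target. -/
theorem exists_element_transfer {𝒳 𝒴 𝒳' 𝒴' : AlgSt.Cat S} [IsFibGrpd 𝒳.p] [IsFibGrpd 𝒴.p] [IsFibGrpd 𝒳'.p]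
    [IsFibGrpd 𝒴'.p] {f : 𝒳 ⥤ᵇ 𝒴} {f' : 𝒳' ⥤ᵇ 𝒴'} (φ : FIsoSq f f') {V₀ : Over S} (w : overCat V₀ ⥤ᵇ 𝒴')
    {v : 𝒴.p.Fiber V₀} (hv : φ.tgt.toEquiv V₀ (cls v) =
      cls (Fiber.mk (p := 𝒴'.p) (a := w.obj (Over.mk (𝟙 V₀))) (w.w_obj _)))
    {Q : Over S} (EQ : Elt f v Q) {O : Over S → Prop} {C : MorphismProperty Scheme.{u}}
    [C.IsStableUnderComposition]
    (hQu : ∀ (T : Over S) (E : Elt f v T), O T → ∃ (T' : Over S) (c : T' ⟶ T) (r : T' ⟶ Q) (E' : Elt f v T'),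
      O T' ∧ C c.left ∧ EHom c E' E ∧ EHom r E' EQ)
    {V : Over S} {z' : 𝒴'.p.Fiber V} {QR : Over S} (ER : Elt w z' QR)
    (hRu : ∀ (T : Over S) (E : Elt w z' T), O T → ∃ (T' : Over S) (c : T' ⟶ T) (r : T' ⟶ QR) (E' : Elt w z' T'),
      O T' ∧ C c.left ∧ EHom c E' E ∧ EHom r E' ER) :
    ∃ (bR : QR ⟶ V₀) (E₀ : Elt f' z' (pullback EQ.base bR)), E₀.base = pullback.snd EQ.base bR ≫ ER.base ∧
      ∀ (U' T₁ : Over S) (E : Elt f' z' U') (c₁ : T₁ ⟶ U') (r₁ : T₁ ⟶ QR), O T₁ → c₁ ≫ E.base = r₁ ≫ ER.base →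
        ∃ (T₃ : Over S) (c : T₃ ⟶ T₁) (r : T₃ ⟶ pullback EQ.base bR) (E₅ : Elt f' z' T₃),
          O T₃ ∧ C c.left ∧ EHom (c ≫ c₁) E₅ E ∧ EHom r E₅ E₀ := by
  haveI := isFibGrpd_overCat (C := Over S) V₀
  let oR : Over V₀ := ER.obj.1
  let bR : QR ⟶ V₀ := eqToHom ER.obj.2.symm ≫ oR.hom
  let z₀ : 𝒴'.p.Fiber V₀ := Fiber.mk (p := 𝒴'.p) (a := w.obj (Over.mk (𝟙 V₀))) (w.w_obj _)
  let jR : w.obj oR ⟶ z₀.1 := w.map (toId oR)
  have hjR : 𝒴'.p.IsHomLift bR jR := isHomLift_toId w oR ER.obj.2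
  haveI := hjR
  haveI := ER.lift
  obtain ⟨xQ', hxQ'⟩ : ∃ x : 𝒳'.p.Fiber Q, cls x = φ.src.toEquiv Q (cls EQ.obj) := Quotient.exists_rep _
  have hcomm : φ.tgt.toEquiv Q (cls (Fiber.mk (p := 𝒴.p) (a := f.obj EQ.obj.1) ((f.w_obj _).trans EQ.obj.2))) =
      cls (Fiber.mk (p := 𝒴'.p) (a := f'.obj xQ'.1) ((f'.w_obj _).trans xQ'.2)) := by
    rw [← mapCls_cls, φ.comm, ← hxQ', mapCls_cls]
  obtain ⟨n, hn⟩ := exists_hom_transport φ.tgt EQ.base (x := v)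
    (x' := Fiber.mk (p := 𝒴.p) (a := f.obj EQ.obj.1) ((f.w_obj _).trans EQ.obj.2)) EQ.map EQ.lift hcomm hv
  haveI := hn
  -- the universal element
  let P₀ : Over S := pullback EQ.base bR
  let p₁ : P₀ ⟶ Q := pullback.fst EQ.base bR
  let p₂ : P₀ ⟶ QR := pullback.snd EQ.base bR
  obtain ⟨x₀, k₀, hk₀⟩ := exists_pullback p₁ xQ'
  haveI := hk₀
  haveI : 𝒴'.p.IsHomLift p₁ (f'.map k₀) := f'.preserves_isHomLift p₁ k₀
  haveI : 𝒴'.p.IsHomLift (p₂ ≫ bR) (f'.map k₀ ≫ n) := by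
    rw [show p₂ ≫ bR = p₁ ≫ EQ.base from pullback.condition.symm]
    exact IsHomLift.comp 𝒴'.p p₁ EQ.base (f'.map k₀) n
  let l := IsStronglyCartesian.map 𝒴'.p bR jR (g := p₂) (f' := p₂ ≫ bR) rfl (f'.map k₀ ≫ n)
  have hl : l ≫ jR = f'.map k₀ ≫ n :=
    IsStronglyCartesian.fac 𝒴'.p bR jR (g := p₂) (f' := p₂ ≫ bR) rfl (f'.map k₀ ≫ n)
  haveI : 𝒴'.p.IsHomLift p₂ l :=
    IsStronglyCartesian.map_isHomLift 𝒴'.p bR jR (g := p₂) (f' := p₂ ≫ bR) rfl (f'.map k₀ ≫ n)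
  let E₀ : Elt f' z' P₀ := ⟨p₂ ≫ ER.base, x₀, l ≫ ER.map, IsHomLift.comp 𝒴'.p p₂ ER.base l ER.map⟩
  refine ⟨bR, E₀, rfl, fun U' T₁ E c₁ r₁ hO₁ hc₁ => ?_⟩
  obtain ⟨E₁, hE₁⟩ := exists_pullback_elt c₁ E
  have hb₁ : E₁.base = r₁ ≫ ER.base := hE₁.base_eq.trans hc₁
  haveI : 𝒴'.p.IsHomLift (r₁ ≫ ER.base) E₁.map := hb₁ ▸ E₁.lift
  let l₁ := IsStronglyCartesian.map 𝒴'.p ER.base ER.map (g := r₁) (f' := r₁ ≫ ER.base) rfl E₁.map
  haveI : 𝒴'.p.IsHomLift r₁ l₁ :=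
    IsStronglyCartesian.map_isHomLift 𝒴'.p ER.base ER.map (g := r₁) (f' := r₁ ≫ ER.base) rfl E₁.map
  obtain ⟨x₁, hx₁⟩ : ∃ x : 𝒳.p.Fiber T₁, cls x = (φ.src.toEquiv T₁).symm (cls E₁.obj) := Quotient.exists_rep _
  replace hx₁ : φ.src.toEquiv T₁ (cls x₁) = cls E₁.obj := by rw [hx₁, Equiv.apply_symm_apply]
  have hcomm₁ : (symm φ.tgt).toEquiv T₁
      (cls (Fiber.mk (p := 𝒴'.p) (a := f'.obj E₁.obj.1) ((f'.w_obj _).trans E₁.obj.2))) =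
      cls (Fiber.mk (p := 𝒴.p) (a := f.obj x₁.1) ((f.w_obj _).trans x₁.2)) := by
    change (φ.tgt.toEquiv T₁).symm _ = _
    rw [Equiv.symm_apply_eq, ← mapCls_cls, ← mapCls_cls, φ.comm, hx₁]
  have hv' : (symm φ.tgt).toEquiv V₀ (cls z₀) = cls v := by
    change (φ.tgt.toEquiv V₀).symm _ = _
    rw [Equiv.symm_apply_eq, hv]
  obtain ⟨n₁, hn₁⟩ := exists_hom_transport (symm φ.tgt) (r₁ ≫ bR) (x := z₀)
    (x' := Fiber.mk (p := 𝒴'.p) (a := f'.obj E₁.obj.1) ((f'.w_obj _).trans E₁.obj.2)) (l₁ ≫ jR)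
    (IsHomLift.comp 𝒴'.p r₁ bR l₁ jR) hcomm₁ hv'
  obtain ⟨T₂, c₂, r₂, E₂, hO₂, hc₂, h₂, ⟨kB, hkB, -⟩⟩ := hQu T₁ ⟨r₁ ≫ bR, x₁, n₁, hn₁⟩ hO₁
  obtain ⟨kA, hkA, -⟩ := h₂
  obtain ⟨x₂, hx₂⟩ : ∃ x : 𝒳'.p.Fiber T₂, cls x = φ.src.toEquiv T₂ (cls E₂.obj) := Quotient.exists_rep _
  obtain ⟨kA', hkA'⟩ := exists_hom_transport φ.src c₂ (x := x₁) (x' := E₂.obj) (y := E₁.obj) kA hkA hx₂.symm hx₁
  obtain ⟨kB', hkB'⟩ := exists_hom_transport φ.src r₂ (x := EQ.obj) (x' := E₂.obj) (y := xQ') kB hkB hx₂.symm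
    hxQ'.symm
  haveI := hkA'; haveI := hkB'; haveI := E₁.lift
  haveI : 𝒴'.p.IsHomLift c₂ (f'.map kA') := f'.preserves_isHomLift c₂ kA'
  haveI : 𝒴'.p.IsHomLift r₂ (f'.map kB') := f'.preserves_isHomLift r₂ kB'
  let n₂ : f'.obj x₂.1 ⟶ z₀.1 := f'.map kB' ≫ n
  let m₂ : f'.obj x₂.1 ⟶ z'.1 := f'.map kA' ≫ E₁.map
  haveI : 𝒴'.p.IsHomLift (r₂ ≫ EQ.base) n₂ := IsHomLift.comp 𝒴'.p r₂ EQ.base (f'.map kB') n
  haveI : 𝒴'.p.IsHomLift (c₂ ≫ E₁.base) m₂ := IsHomLift.comp 𝒴'.p c₂ E₁.base (f'.map kA') E₁.map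
  let o₂ : Over V₀ := Over.mk (r₂ ≫ EQ.base)
  haveI : 𝒴'.p.IsHomLift (r₂ ≫ EQ.base) (w.map (toId o₂)) := lift_map w (toId o₂)
  let i : w.obj o₂ ⟶ f'.obj x₂.1 := IsStronglyCartesian.map 𝒴'.p (r₂ ≫ EQ.base) n₂ (g := 𝟙 T₂)
    (f' := r₂ ≫ EQ.base) (Category.id_comp _).symm (w.map (toId o₂))
  have hi : i ≫ n₂ = w.map (toId o₂) := IsStronglyCartesian.fac 𝒴'.p (r₂ ≫ EQ.base) n₂ (g := 𝟙 T₂)
    (f' := r₂ ≫ EQ.base) (Category.id_comp _).symm (w.map (toId o₂))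
  haveI : 𝒴'.p.IsHomLift (𝟙 T₂) i := IsStronglyCartesian.map_isHomLift 𝒴'.p (r₂ ≫ EQ.base) n₂ (g := 𝟙 T₂)
    (f' := r₂ ≫ EQ.base) (Category.id_comp _).symm (w.map (toId o₂))
  haveI : IsIso i := isIso_of_isHomLift 𝒴'.p (𝟙 T₂) i
  let E₃ : Elt w z' T₂ := ⟨c₂ ≫ E₁.base, Fiber.mk (p := (overCat V₀).p) (a := o₂) rfl, i ≫ m₂,
    IsHomLift.comp_lift_id_left 𝒴'.p (c₂ ≫ E₁.base) m₂ i⟩
  obtain ⟨T₃, c₃, r₃, E₄, hO₃, hc₃, ⟨kC, hkC, hkC'⟩, ⟨kD, hkD, hkD'⟩⟩ := hRu T₂ E₃ hO₂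
  haveI := hkC; haveI := hkD
  change w.map kC ≫ i ≫ m₂ = E₄.map at hkC'
  haveI : 𝒴'.p.IsHomLift c₃ (w.map kC) := w.preserves_isHomLift c₃ kC
  haveI : 𝒴'.p.IsHomLift r₃ (w.map kD) := w.preserves_isHomLift r₃ kD
  have htoId : w.map kC ≫ w.map (toId o₂) = w.map kD ≫ jR := by
    change _ = w.map kD ≫ w.map (toId oR)
    rw [← w.toFunctor.map_comp, ← w.toFunctor.map_comp]
    exact congrArg (fun k => w.toFunctor.map k) ((comp_toId kC).trans (comp_toId kD).symm)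
  have hbase : (c₃ ≫ r₂) ≫ EQ.base = r₃ ≫ bR := by
    rw [Category.assoc]
    refine eq_of_lifts 𝒴'.p (w.map kC ≫ w.map (toId o₂))
      (IsHomLift.comp 𝒴'.p c₃ (r₂ ≫ EQ.base) (w.map kC) (w.map (toId o₂))) ?_
    rw [htoId]
    exact IsHomLift.comp 𝒴'.p r₃ bR (w.map kD) jR
  let r : T₃ ⟶ P₀ := pullback.lift (c₃ ≫ r₂) r₃ hbase
  have hr₁ : r ≫ p₁ = c₃ ≫ r₂ := pullback.lift_fst _ _ _
  have hr₂ : r ≫ p₂ = r₃ := pullback.lift_snd _ _ _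
  obtain ⟨x₃, kE, hkE⟩ := exists_pullback c₃ x₂
  haveI := hkE
  haveI : 𝒴'.p.IsHomLift c₃ (f'.map kE) := f'.preserves_isHomLift c₃ kE
  let E₅ : Elt f' z' T₃ := ⟨c₃ ≫ c₂ ≫ E₁.base, x₃, f'.map kE ≫ m₂, inferInstance⟩
  obtain ⟨k₁, hk₁, hk₁'⟩ := hE₁
  haveI := hk₁
  have hleft : EHom (c₃ ≫ c₂ ≫ c₁) E₅ E := ⟨kE ≫ kA' ≫ k₁, inferInstance, by
    simp only [f'.toFunctor.map_comp, Category.assoc, hk₁']
    rfl⟩
  have hright : EHom r E₅ E₀ := by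
    haveI : 𝒳'.p.IsHomLift (r ≫ p₁) (kE ≫ kB') := hr₁ ▸ IsHomLift.comp 𝒳'.p c₃ r₂ kE kB'
    let k : x₃.1 ⟶ x₀.1 :=
      IsStronglyCartesian.map 𝒳'.p p₁ k₀ (g := r) (f' := r ≫ p₁) rfl (kE ≫ kB')
    have hk : k ≫ k₀ = kE ≫ kB' :=
      IsStronglyCartesian.fac 𝒳'.p p₁ k₀ (g := r) (f' := r ≫ p₁) rfl (kE ≫ kB')
    haveI hkl : 𝒳'.p.IsHomLift r k :=
      IsStronglyCartesian.map_isHomLift 𝒳'.p p₁ k₀ (g := r) (f' := r ≫ p₁) rfl (kE ≫ kB')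
    haveI : 𝒴'.p.IsHomLift c₃ (w.map kC ≫ i) := IsHomLift.comp_lift_id_right 𝒴'.p c₃ (w.map kC) i
    let θ := IsStronglyCartesian.map 𝒴'.p c₃ (w.map kC ≫ i) (g := 𝟙 T₃) (f' := c₃)
      (Category.id_comp _).symm (f'.map kE)
    have hθ : θ ≫ w.map kC ≫ i = f'.map kE := IsStronglyCartesian.fac 𝒴'.p c₃ (w.map kC ≫ i) (g := 𝟙 T₃)
      (f' := c₃) (Category.id_comp _).symm (f'.map kE)
    haveI : 𝒴'.p.IsHomLift (𝟙 T₃) θ := IsStronglyCartesian.map_isHomLift 𝒴'.p c₃ (w.map kC ≫ i) (g := 𝟙 T₃)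
      (f' := c₃) (Category.id_comp _).symm (f'.map kE)
    haveI : 𝒴'.p.IsHomLift r (f'.map k) := f'.preserves_isHomLift r k
    have key : f'.map k ≫ l = θ ≫ w.map kD := by
      haveI : 𝒴'.p.IsHomLift r₃ (θ ≫ w.map kD) := IsHomLift.comp_lift_id_left 𝒴'.p r₃ (w.map kD) θ
      haveI : 𝒴'.p.IsHomLift r₃ (f'.map k ≫ l) := hr₂ ▸ IsHomLift.comp 𝒴'.p r p₂ (f'.map k) l
      apply IsStronglyCartesian.ext 𝒴'.p bR jR r₃
      rw [Category.assoc, Category.assoc, hl, ← f'.toFunctor.map_comp_assoc, hk, ← htoId, ← hi,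
        f'.toFunctor.map_comp_assoc]
      rw [← Category.assoc (w.map kC), ← Category.assoc θ, hθ]
    refine ⟨k, hkl, ?_⟩
    change f'.map k ≫ l ≫ ER.map = f'.map kE ≫ m₂
    rw [← Category.assoc, key, Category.assoc, hkD', ← hkC', ← Category.assoc (w.map kC), ← Category.assoc θ, hθ]
  exact ⟨T₃, c₃ ≫ c₂, r, E₅, hO₃, by rw [Over.comp_left]; exact C.comp_mem _ _ hc₃ hc₂,
    by rw [Category.assoc]; exact hleft, hright⟩

/-- Transfer of a good property along an isomorphism of maps of presheaves of classes. -/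
theorem repByAlgSpWith_locP_transfer {P : MorphismProperty Scheme.{u}} [AlgSpLib.EtLocProp P] (hG : GoodSch P)
    {𝒳 𝒴 𝒳' 𝒴' : AlgSt.Cat S} [IsFibGrpd 𝒳.p] [IsFibGrpd 𝒴.p] [IsFibGrpd 𝒳'.p] [IsFibGrpd 𝒴'.p]
    {f : 𝒳 ⥤ᵇ 𝒴} {f' : 𝒳' ⥤ᵇ 𝒴'} (φ : FIsoSq f f') (hf : AlgSt.RepByAlgSpWith (LocP P) f)
    (hf' : AlgSt.RepByAlgSp1 f') (hA : AlgSt.HasAtlas (LocP @Smooth) 𝒴') :
    AlgSt.RepByAlgSpWith (LocP P) f' := by
  haveI := hG.comp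
  haveI := hG.bc
  obtain ⟨V₀, w, hw, hws⟩ := hA
  haveI := isFibGrpd_overCat (C := Over S) V₀
  rw [repByAlgSpWith_iff]
  intro V u
  obtain ⟨α⟩ := nonempty_uf_iso u
  generalize Fiber.mk (p := 𝒴'.p) (a := u.obj ⟨V, ⟨𝟙 V⟩⟩) (u.w_obj _) = z' at α
  obtain ⟨H', a', hH', -, ha', ⟨C⟩⟩ :=
    exists_classifier ((repByAlgSp1_iff_with_top f').mp hf') z'
  refine ⟨H', a', hH', ha'.congr α (Iso.refl _), ?_⟩
  obtain ⟨QR, ER, HR, aR, qR, ⟨⟨hR₁, hR₂⟩, hqR, hqRs, hRc⟩, hRu⟩ :=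
    exists_universal (repByAlgSpWith_inf good_surjective.bc.precomp_iso hw hws) z'
  haveI : Smooth ER.base.left :=
    hR₁ qR (𝟙 _) ER.base hqR (repWith_id _ V) (hRc.trans (Category.comp_id _).symm)
  haveI : Surjective ER.base.left := by
    refine surjective_left_of_isSurjectiveMor fun x => ?_
    obtain ⟨y, rfl⟩ := hR₂ x
    obtain ⟨t, rfl⟩ := AlgSpLib.map_surjective_of_repWith hqRs y
    exact ⟨t, by rw [← hRc, Points.map_comp]⟩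
  obtain ⟨v, hv⟩ : ∃ v : 𝒴.p.Fiber V₀, φ.tgt.toEquiv V₀ (cls v) =
      cls (Fiber.mk (p := 𝒴'.p) (a := w.obj (Over.mk (𝟙 V₀))) (w.w_obj _)) := by
    obtain ⟨v, hv⟩ := Quotient.exists_rep ((φ.tgt.toEquiv V₀).symm
      (cls (Fiber.mk (p := 𝒴'.p) (a := w.obj (Over.mk (𝟙 V₀))) (w.w_obj _))))
    exact ⟨v, by rw [show cls v = _ from hv, Equiv.apply_symm_apply]⟩
  obtain ⟨Q, EQ, H, a, q, ⟨hPa, hq, -, hQc⟩, hQu⟩ := exists_universal hf v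
  have hPQ : P EQ.base.left :=
    hPa q (𝟙 _) EQ.base hq (repWith_id _ V₀) (hQc.trans (Category.comp_id _).symm)
  obtain ⟨bR, E₀, hE₀b, hlift⟩ := exists_element_transfer φ w hv EQ (O := fun _ => True)
    (C := @Etale ⊓ @Surjective)
    (fun T E _ => let ⟨T', c, r, E', h₁, h₂, h₃⟩ := hQu T E; ⟨T', c, r, E', trivial, ⟨h₁, h₂⟩, h₃⟩) ER
    (fun T E _ => let ⟨T', c, r, E', h₁, h₂, h₃⟩ := hRu T E; ⟨T', c, r, E', trivial, ⟨h₁, h₂⟩, h₃⟩)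
  let p₁ := pullback.fst EQ.base bR
  let p₂ := pullback.snd EQ.base bR
  have hP₀ : P E₀.base.left := by
    have sq : IsPullback p₁.left p₂.left EQ.base.left bR.left :=
      (IsPullback.of_hasPullback EQ.base bR).map (Over.forget S)
    rw [hE₀b]
    change P (p₂ ≫ ER.base).left
    rw [Over.comp_left]
    exact P.comp_mem _ _ (P.of_isPullback sq hPQ) (hG.smooth_le _ _ _ ‹_›)
  -- the lifting of a chart
  obtain ⟨U', t₀, ht₀, ht₀s⟩ := hH'.atlas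
  obtain ⟨E, hE⟩ := C.exists_elt t₀
  have hcomp : t₀ ≫ a' = (yon S).map E.base ≫ 𝟙 _ := by rw [← hE, C.cls_comp, Category.comp_id]
  refine AlgSpLib.locP_of_chart ht₀ ht₀s (repWith_id _ V) hcomp ?_
  let T₁ : Over S := pullback E.base ER.base
  let c₁ : T₁ ⟶ U' := pullback.fst E.base ER.base
  let r₁ : T₁ ⟶ QR := pullback.snd E.base ER.base
  have sq₁ : IsPullback c₁.left r₁.left E.base.left ER.base.left :=
    (IsPullback.of_hasPullback E.base ER.base).map (Over.forget S)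
  haveI : Smooth c₁.left := MorphismProperty.of_isPullback (P := @Smooth) sq₁.flip ‹_›
  haveI : Surjective c₁.left := MorphismProperty.of_isPullback (P := @Surjective) sq₁.flip ‹_›
  obtain ⟨T₃, c₃, r, E₅, -, ⟨hc₃e, hc₃s⟩, hleft, hright⟩ := hlift U' T₁ E c₁ r₁ trivial pullback.condition
  have e := (C.cls_map hleft).symm.trans (C.cls_map hright)
  rw [hE] at e
  obtain ⟨Y, p, qY, sq⟩ := AlgSpLib.exists_isPullback_yon t₀ (C.cls E₀) ht₀.rep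
  haveI : Etale qY.left := AlgSpLib.etale_left (AlgSpLib.repWith_of_isPullback sq ht₀)
  obtain ⟨s, hs⟩ := (yon S).map_surjective (sq.lift _ _ e)
  have hsp : s ≫ p = c₃ ≫ c₁ := (yon S).map_injective (by
    rw [Functor.map_comp, hs]
    exact sq.lift_fst _ _ _)
  have hpq : p ≫ E.base = qY ≫ E₀.base := (yon S).map_injective (by
    have e1 := congrArg (· ≫ a') sq.w
    simp only [Category.assoc, C.cls_comp] at e1
    rw [Functor.map_comp, Functor.map_comp, ← e1, ← hE, C.cls_comp])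
  haveI := hc₃e
  haveI := hc₃s
  haveI : Smooth (c₃ ≫ c₁).left := by
    rw [Over.comp_left]; infer_instance
  haveI : Surjective (c₃ ≫ c₁).left := by
    rw [Over.comp_left]; infer_instance
  refine prop_of_retract hG (c₃ ≫ c₁).left p.left E.base.left ?_ s.left ?_
  · rw [← Over.comp_left, hpq, Over.comp_left]
    exact P.comp_mem _ _ (hG.smooth_le _ _ _ (inferInstanceAs (Smooth qY.left))) hP₀
  · rw [← Over.comp_left, hsp]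

end IsoNatLib
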