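import Groth.Prelude.Def_W4c2isonaturalstkIso
import Groth.Agent.FibLib.Rep

/-!
# Isomorphism classes of objects of categories fibred in groupoids
-/

set_option autoImplicit false
set_option backward.isDefEq.respectTransparency false
set_option backward.isDefEq.respectTransparency.types false

universe u

open CategoryTheory AlgebraicGeometry FibCat FibLib IsoNat
open CategoryTheory.Functor (Fiber)

namespace IsoNatLib

variable {S : Scheme.{u}} {𝒳 𝒴 : AlgSt.Cat S}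

/-- A morphism of the fibre over `T` gives equality of classes. -/
lemma cls_eq_of_vert [IsFibGrpd 𝒳.p] {T : Over S} {x y : 𝒳.p.Fiber T} (k : x.1 ⟶ y.1)
    (hk : 𝒳.p.IsHomLift (𝟙 T) k) : cls x = cls y := by
  haveI := hk
  haveI : IsIso k := isIso_of_isHomLift 𝒳.p (𝟙 T) k
  exact Quotient.sound ⟨fiberIso 𝒳.p (asIso k) hk⟩

/-- Objects with equal classes are vertically isomorphic. -/
lemma exists_vert_of_cls_eq {T : Over S} {x y : 𝒳.p.Fiber T} (h : cls x = cls y) :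
    ∃ k : x.1 ≅ y.1, 𝒳.p.IsHomLift (𝟙 T) k.hom := by
  obtain ⟨e⟩ := Quotient.exact h
  exact ⟨Fiber.fiberInclusion.mapIso e, e.hom.2⟩

/-- Two pullbacks of objects with the same class have the same class. -/
lemma cls_eq_of_pullbacks [IsFibGrpd 𝒳.p] {T' T : Over S} {g : T' ⟶ T} {x' y' : 𝒳.p.Fiber T'}
    {x y : 𝒳.p.Fiber T} (h : cls x = cls y) (a : x'.1 ⟶ x.1) (ha : 𝒳.p.IsHomLift g a)
    (b : y'.1 ⟶ y.1) (hb : 𝒳.p.IsHomLift g b) : cls x' = cls y' := by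
  obtain ⟨k, hk⟩ := exists_vert_of_cls_eq h
  haveI := hk; haveI := ha; haveI := hb
  haveI : 𝒳.p.IsHomLift g (a ≫ k.hom) := IsHomLift.comp_lift_id_right 𝒳.p g a k.hom
  let χ := Functor.IsStronglyCartesian.map 𝒳.p g b (g := 𝟙 T') (Category.id_comp g).symm (a ≫ k.hom)
  exact cls_eq_of_vert χ (Functor.IsStronglyCartesian.map_isHomLift 𝒳.p g b (Category.id_comp g).symm _)

/-- Pullback along any map exists. -/
lemma exists_pullback [IsFibGrpd 𝒳.p] {T' T : Over S} (g : T' ⟶ T) (x : 𝒳.p.Fiber T) :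
    ∃ (x' : 𝒳.p.Fiber T') (a : x'.1 ⟶ x.1), 𝒳.p.IsHomLift g a := by
  obtain ⟨b, φ, hφ⟩ := exists_lift 𝒳.p x.2 g
  haveI := hφ
  exact ⟨Fiber.mk (p := 𝒳.p) (IsHomLift.domain_eq 𝒳.p g φ), φ, hφ⟩

lemma mapCls_cls (f : 𝒳 ⥤ᵇ 𝒴) {T : Over S} (x : 𝒳.p.Fiber T) :
    mapCls f T (cls x) = cls (Fiber.mk (p := 𝒴.p) (a := f.obj x.1) ((f.w_obj x.1).trans x.2)) := rfl

/-- The inverse of an isomorphism of presheaves of classes. -/
noncomputable def symm [IsFibGrpd 𝒳.p] [IsFibGrpd 𝒴.p] (φ : FIso 𝒳 𝒴) : FIso 𝒴 𝒳 where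
  toEquiv T := (φ.toEquiv T).symm
  natural := by
    intro T' T g y₁ y c hc
    obtain ⟨x, hx⟩ := Quotient.exists_rep ((φ.toEquiv T).symm (cls y))
    replace hx : cls x = (φ.toEquiv T).symm (cls y) := hx
    obtain ⟨x', a, ha⟩ := exists_pullback g x
    obtain ⟨z', z, b, hb, h₁, h₂⟩ := φ.natural g x' x a ha
    refine ⟨x', x, a, ha, ?_, hx.symm⟩
    have hzy : cls z = cls y := by rw [← h₂, hx, Equiv.apply_symm_apply]
    rw [← cls_eq_of_pullbacks hzy b hb c hc, ← h₁, Equiv.symm_apply_apply]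

/-- The inverse of an isomorphism of maps of presheaves of classes. -/
noncomputable def symmSq {𝒳' 𝒴' : AlgSt.Cat S} [IsFibGrpd 𝒳.p] [IsFibGrpd 𝒴.p] [IsFibGrpd 𝒳'.p]
    [IsFibGrpd 𝒴'.p] {f : 𝒳 ⥤ᵇ 𝒴} {f' : 𝒳' ⥤ᵇ 𝒴'} (φ : FIsoSq f f') : FIsoSq f' f where
  src := symm φ.src
  tgt := symm φ.tgt
  comm T c := by
    change (φ.tgt.toEquiv T).symm _ = mapCls f T ((φ.src.toEquiv T).symm c)
    rw [Equiv.symm_apply_eq, φ.comm, Equiv.apply_symm_apply]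

/-- Transport of a pullback. -/
lemma exists_hom_transport [IsFibGrpd 𝒴.p] (φ : FIso 𝒳 𝒴) {T' T : Over S} (g : T' ⟶ T)
    {x' : 𝒳.p.Fiber T'} {x : 𝒳.p.Fiber T} (a : x'.1 ⟶ x.1) (ha : 𝒳.p.IsHomLift g a)
    {y' : 𝒴.p.Fiber T'} {y : 𝒴.p.Fiber T} (h' : φ.toEquiv T' (cls x') = cls y')
    (h : φ.toEquiv T (cls x) = cls y) : ∃ b : y'.1 ⟶ y.1, 𝒴.p.IsHomLift g b := by
  obtain ⟨z', z, b, hb, h₁, h₂⟩ := φ.natural g x' x a ha
  obtain ⟨k', hk'⟩ := exists_vert_of_cls_eq (h'.symm.trans h₁)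
  obtain ⟨k, hk⟩ := exists_vert_of_cls_eq (h₂.symm.trans h)
  haveI := hb; haveI := hk'; haveI := hk
  haveI : 𝒴.p.IsHomLift g (b ≫ k.hom) := IsHomLift.comp_lift_id_right 𝒴.p g b k.hom
  exact ⟨k'.hom ≫ b ≫ k.hom, IsHomLift.comp_lift_id_left 𝒴.p g (b ≫ k.hom) k'.hom⟩

end IsoNatLib
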