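import Groth.Agent.IsoNatLib.Transfer
import Groth.Agent.AlgStLib.PointsQc
import Groth.Agent.AlgStLib.QcMor

/-!
# Charts, surjectivity and quasi-compactness through isomorphisms of presheaves of classes
-/

set_option autoImplicit false
set_option backward.isDefEq.respectTransparency false
set_option backward.isDefEq.respectTransparency.types false

universe u

open CategoryTheory CategoryTheory.Limits AlgebraicGeometry Opposite AlgSp FibCat FibLib AlgStLib IsoNat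
open CategoryTheory.Functor (Fiber)

namespace IsoNatLib

variable {S : Scheme.{u}} {𝒳 𝒴 : AlgSt.Cat S}

/-- The identity isomorphism. -/
def refl (𝒳 : AlgSt.Cat S) : FIso 𝒳 𝒳 where
  toEquiv _ := Equiv.refl _
  natural _ x' x a ha := ⟨x', x, a, ha, rfl, rfl⟩

/-- Corresponding charts give corresponding maps. -/
noncomputable def chartSq [IsFibGrpd 𝒳.p] [IsFibGrpd 𝒴.p] (φ : FIso 𝒳 𝒴) {U : Over S}
    (x : overCat U ⥤ᵇ 𝒳) (y : overCat U ⥤ᵇ 𝒴) (h : φ.toEquiv U (objCls x) = objCls y) :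
    FIsoSq x y where
  src := refl _
  tgt := φ
  comm T c := by
    obtain ⟨o, rfl⟩ := Quotient.exists_rep c
    obtain ⟨o, ho⟩ := o
    change o.left = T at ho
    subst ho
    change φ.toEquiv o.left (mapCls x o.left (cls ⟨o, rfl⟩)) = mapCls y o.left (cls ⟨o, rfl⟩)
    rw [mapCls_cls, mapCls_cls]
    obtain ⟨z', hz'⟩ : ∃ z' : 𝒴.p.Fiber o.left, cls z' =
        φ.toEquiv o.left (cls (Fiber.mk (p := 𝒳.p) (a := x.obj o) (x.w_obj o))) := Quotient.exists_rep _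
    obtain ⟨b, hb⟩ := exists_hom_transport φ o.hom
      (x' := Fiber.mk (p := 𝒳.p) (a := x.obj o) (x.w_obj o))
      (x := Fiber.mk (p := 𝒳.p) (a := x.obj (Over.mk (𝟙 U))) (x.w_obj _)) (x.map (toId o))
      (lift_map x (toId o)) (y' := z')
      (y := Fiber.mk (p := 𝒴.p) (a := y.obj (Over.mk (𝟙 U))) (y.w_obj _)) hz'.symm h
    refine hz'.symm.trans ?_
    exact cls_eq_of_pullbacks (x := Fiber.mk (p := 𝒴.p) (a := y.obj (Over.mk (𝟙 U))) (y.w_obj _))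
      (y := Fiber.mk (p := 𝒴.p) (a := y.obj (Over.mk (𝟙 U))) (y.w_obj _)) rfl b hb
      (y' := Fiber.mk (p := 𝒴.p) (a := y.obj o) (y.w_obj o)) (y.map (toId o)) (lift_map y (toId o))

/-- Every chart has a corresponding chart. -/
lemma exists_chart [IsFibGrpd 𝒴.p] (φ : FIso 𝒳 𝒴) {U : Over S} (x : overCat U ⥤ᵇ 𝒳) :
    ∃ y : overCat U ⥤ᵇ 𝒴, φ.toEquiv U (objCls x) = objCls y := by
  obtain ⟨z, hz⟩ := Quotient.exists_rep (φ.toEquiv U (objCls x))
  obtain ⟨k⟩ := nonempty_evalAtId_ofPoint_iso z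
  exact ⟨ofPoint z, hz.symm.trans (Quotient.sound ⟨k.symm⟩)⟩

lemma repByAlgSp1_chart [IsFibGrpd 𝒴.p] (h : AlgSt.RepByAlgSp1 (diag (toSelf 𝒴))) {U : Over S}
    (y : overCat U ⥤ᵇ 𝒴) : AlgSt.RepByAlgSp1 y :=
  repByAlgSp1_diag_iff.mp h U y

/-- Good properties of charts are detected by the classes. -/
theorem chart_locP {P : MorphismProperty Scheme.{u}} [AlgSpLib.EtLocProp P] (hG : GoodSch P)
    [IsFibGrpd 𝒳.p] (h𝒴 : AlgSt.IsAlgStack Scheme.fppfPrecoverage 𝒴) (φ : FIso 𝒳 𝒴) {U : Over S}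
    {x : overCat U ⥤ᵇ 𝒳} {y : overCat U ⥤ᵇ 𝒴} (h : φ.toEquiv U (objCls x) = objCls y)
    (hx : AlgSt.RepByAlgSpWith (LocP P) x) : AlgSt.RepByAlgSpWith (LocP P) y := by
  haveI := isFibGrpd_of_isAlgStack h𝒴
  haveI := isFibGrpd_overCat (C := Over S) U
  exact repByAlgSpWith_locP_transfer hG (chartSq φ x y h) hx (repByAlgSp1_chart h𝒴.diag y) h𝒴.atlas

/-- Surjectivity on points is detected by the classes. -/
theorem isSurjective_transfer {𝒳' 𝒴' : AlgSt.Cat S} [IsFibGrpd 𝒴.p] [IsFibGrpd 𝒳'.p] [IsFibGrpd 𝒴'.p]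
    {f : 𝒳 ⥤ᵇ 𝒴} {f' : 𝒳' ⥤ᵇ 𝒴'} (φ : FIsoSq f f') (hf : AlgSt.IsSurjective f) :
    AlgSt.IsSurjective f' := by
  intro P'
  obtain ⟨p', rfl⟩ := AlgSt.Points.mk_surjective P'
  obtain ⟨y, hy⟩ := Quotient.exists_rep
    ((φ.tgt.toEquiv _).symm (cls (Fiber.mk (p := 𝒴'.p) (a := p'.obj) p'.lies)))
  replace hy : φ.tgt.toEquiv _ (cls y) = cls (Fiber.mk (p := 𝒴'.p) (a := p'.obj) p'.lies) := by
    rw [show cls y = _ from hy, Equiv.apply_symm_apply]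
  let p : AlgSt.FPt 𝒴 := { K := p'.K, str := p'.str, obj := y.1, lies := y.2 }
  obtain ⟨Q, hQ⟩ := hf (AlgSt.Points.mk p)
  obtain ⟨q, rfl⟩ := AlgSt.Points.mk_surjective Q
  obtain ⟨r, a, b, -⟩ := mk_eq_mk_iff.mp hQ
  obtain ⟨x', hx'⟩ : ∃ x' : 𝒳'.p.Fiber (Over.mk q.str),
      cls x' = φ.src.toEquiv _ (cls (Fiber.mk (p := 𝒳.p) (a := q.obj) q.lies)) := Quotient.exists_rep _
  obtain ⟨r', hr'⟩ : ∃ r' : 𝒴'.p.Fiber (Over.mk r.str),
      cls r' = φ.tgt.toEquiv _ (cls (Fiber.mk (p := 𝒴.p) (a := r.obj) r.lies)) := Quotient.exists_rep _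
  obtain ⟨a', -⟩ := exists_hom_transport φ.tgt (baseHom a)
    (x' := Fiber.mk (p := 𝒴.p) (a := r.obj) r.lies)
    (x := Fiber.mk (p := 𝒴.p) (a := f.obj q.obj) ((f.w_obj _).trans q.lies)) a (isHomLift_baseHom a)
    (y' := r') (y := Fiber.mk (p := 𝒴'.p) (a := f'.obj x'.1) ((f'.w_obj _).trans x'.2)) hr'.symm
    (by rw [← mapCls_cls f' x', hx', ← φ.comm, mapCls_cls]; rfl)
  obtain ⟨b', -⟩ := exists_hom_transport φ.tgt (baseHom b)
    (x' := Fiber.mk (p := 𝒴.p) (a := r.obj) r.lies) (x := y) b (isHomLift_baseHom b) (y' := r')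
    (y := Fiber.mk (p := 𝒴'.p) (a := p'.obj) p'.lies) hr'.symm hy
  let q' : AlgSt.FPt 𝒳' := { K := q.K, str := q.str, obj := x'.1, lies := x'.2 }
  exact ⟨AlgSt.Points.mk q', AlgSt.Points.sound
    ⟨{ K := r.K, str := r.str, obj := r'.1, lies := r'.2 }, a', b', trivial⟩⟩

/-- Surjective charts are detected by the classes. -/
theorem chart_surjective [IsFibGrpd 𝒳.p] (h𝒴 : AlgSt.IsAlgStack Scheme.fppfPrecoverage 𝒴) (φ : FIso 𝒳 𝒴)
    {U : Over S} {x : overCat U ⥤ᵇ 𝒳} {y : overCat U ⥤ᵇ 𝒴} (h : φ.toEquiv U (objCls x) = objCls y)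
    (hx : AlgSt.RepByAlgSpWith IsSurjectiveMor x) : AlgSt.RepByAlgSpWith IsSurjectiveMor y := by
  haveI := isFibGrpd_of_isAlgStack h𝒴
  haveI := isFibGrpd_overCat (C := Over S) U
  exact (surjective_iff_repByAlgSpWith (repByAlgSp1_chart h𝒴.diag y)).mp
    (isSurjective_transfer (chartSq φ x y h) (surjective_of_repByAlgSpWith hx))

end IsoNatLib
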