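import Groth.Agent.AlgStLib.Substack
import Groth.Agent.AlgStLib.PointsQc

/-!
# Points of open substacks
-/

set_option autoImplicit false
set_option backward.isDefEq.respectTransparency false
set_option backward.isDefEq.respectTransparency.types false

universe u

open CategoryTheory CategoryTheory.Limits AlgebraicGeometry Opposite AlgSp FibCat FibLib AlgSpLib AlgStLib Topology

namespace IsoNatLib

variable {S : Scheme.{u}} {𝒳 𝒴 : AlgSt.Cat S}

theorem injective_subIncl [IsFibGrpd 𝒳.p] (T : Set (AlgSt.Points 𝒳)) :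
    Function.Injective (AlgSt.Points.map (AlgSt.subIncl 𝒳 (PtsIn T))) := by
  intro x y h
  obtain ⟨p, rfl⟩ := AlgSt.Points.mk_surjective x
  obtain ⟨q, rfl⟩ := AlgSt.Points.mk_surjective y
  obtain ⟨r, a, b, -⟩ := mk_eq_mk_iff.mp h
  let r' : AlgSt.FPt (AlgSt.fullSub 𝒳 (PtsIn T)) :=
    { K := r.K, str := r.str, obj := ⟨r.obj, ptsIn_of_hom a p.obj.property⟩, lies := r.lies }
  exact AlgSt.Points.sound ⟨r', ObjectProperty.homMk a, ObjectProperty.homMk b, trivial⟩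

theorem isOpenMap_of_isOpenImm [IsFibGrpd 𝒳.p] [IsFibGrpd 𝒴.p] (hA : AlgSt.HasAtlas (LocP @Smooth) 𝒴)
    {i : 𝒴 ⥤ᵇ 𝒳} (hi : AlgSt.IsOpenImm i) : IsOpenMap (AlgSt.Points.map i) := by
  intro W hW U x _
  rw [ofChart_preimage, (Points.schemeHomeo U).isOpen_preimage]
  obtain ⟨H, a, hH, ha, hPa⟩ := (repByAlgSpWith_iff _ i).mp hi U (BasedFunctor.comp (AlgSt.toOverCat U) x)
  obtain ⟨v, hv⟩ := preimage_image_along ha
  rw [hv]
  exact isOpenMap_map_of_isEtaleMor hH (isEtaleMor_of_openImmersion hPa) _ (hW.preimage (continuous_ptMap hA hH v))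

theorem compactSpace_of_isOpenImm [IsFibGrpd 𝒳.p] [IsFibGrpd 𝒴.p] (hA : AlgSt.HasAtlas (LocP @Smooth) 𝒴)
    {i : 𝒴 ⥤ᵇ 𝒳} (hi : AlgSt.IsOpenImm i) (hinj : Function.Injective (AlgSt.Points.map i))
    (h : IsCompact (Set.range (AlgSt.Points.map i))) : CompactSpace (AlgSt.Points 𝒴) := by
  refine ⟨isCompact_of_finite_subcover fun {ι} O hO hcov => ?_⟩
  obtain ⟨s, hs⟩ := h.elim_finite_subcover (fun k => AlgSt.Points.map i '' O k)
    (fun k => isOpenMap_of_isOpenImm hA hi _ (hO k)) (by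
      rintro _ ⟨y, rfl⟩
      obtain ⟨k, hk⟩ := Set.mem_iUnion.1 (hcov (Set.mem_univ y))
      exact Set.mem_iUnion.2 ⟨k, y, hk, rfl⟩)
  refine ⟨s, fun y _ => ?_⟩
  obtain ⟨k, hk, z, hz, e⟩ := Set.mem_iUnion₂.1 (hs ⟨y, rfl⟩)
  exact Set.mem_iUnion₂.2 ⟨k, hk, hinj e ▸ hz⟩

end IsoNatLib
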