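import Groth.Agent.IsoNatLib.Charts

/-!
# Quasi-compactness of morphisms through isomorphisms of presheaves of classes
-/

set_option autoImplicit false
set_option backward.isDefEq.respectTransparency false
set_option backward.isDefEq.respectTransparency.types false

universe u

open CategoryTheory CategoryTheory.Limits AlgebraicGeometry Opposite AlgSp FibCat FibLib AlgStLib IsoNat
open CategoryTheory.Functor (Fiber)

namespace IsoNatLib

variable {S : Scheme.{u}} {𝒳 𝒴 : AlgSt.Cat S}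

/-- The scheme over `S` is the spectrum of a field. -/
def IsFld (T : Over S) : Prop :=
  ∃ (K : Type u) (_ : Field K) (s : Spec (CommRingCat.of K) ⟶ S), T = Over.mk s

lemma exists_elt_of_obj' [IsFibGrpd 𝒳.p] [IsFibGrpd 𝒴.p] {f : 𝒳 ⥤ᵇ 𝒴} {V : Over S} {z : 𝒴.p.Fiber V}
    (η : (fp (uf z) f).obj) {T : Over S} (hη : (fp (uf z) f).p.obj η = T) :
    ∃ (E : Elt f z T) (μ : η ⟶ eltObj E), (fp (uf z) f).p.IsHomLift (𝟙 T) μ := by
  subst hη
  exact exists_elt_of_obj η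

/-- A quasi-compact base change has an affine family of elements which meets every element over a field. -/
theorem exists_universal_of_qc [IsFibGrpd 𝒳.p] [IsFibGrpd 𝒴.p] {f : 𝒳 ⥤ᵇ 𝒴} {V : Over S} {z : 𝒴.p.Fiber V}
    (h : AlgSt.IsQuasiCompact (fp (uf z) f)) :
    ∃ (Q : Over S) (E₀ : Elt f z Q), IsAffine Q.left ∧ ∀ (T : Over S) (E : Elt f z T), IsFld T →
      ∃ (T' : Over S) (c : T' ⟶ T) (r : T' ⟶ Q) (E' : Elt f z T'),
        IsFld T' ∧ (⊤ : MorphismProperty Scheme.{u}) c.left ∧ EHom c E' E ∧ EHom r E' E₀ := by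
  haveI hF : IsFibGrpd (fp (uf z) f).p := isFibGrpd_fp
  obtain ⟨Q, c, hQ, -, hcs⟩ := h
  obtain ⟨E₀, μ₀, hμ₀⟩ := exists_elt_of_obj' (c.obj (Over.mk (𝟙 Q))) (T := Q) (c.w_obj _)
  refine ⟨Q, E₀, hQ, ?_⟩
  rintro T E ⟨K, _, s, rfl⟩
  haveI := isFibGrpd_overCat (C := Over S) Q
  let q : AlgSt.FPt (fp (uf z) f) := { K := K, str := s, obj := eltObj E, lies := rfl }
  obtain ⟨t, ht⟩ := surjective_ofChart hcs (AlgSt.Points.mk q)
  obtain ⟨r, a, b, -⟩ := mk_eq_mk_iff.mp ht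
  obtain ⟨Er, μ, hμ⟩ := exists_elt_of_obj' r.obj r.lies
  haveI := hμ
  haveI : IsIso μ := isIso_of_isHomLift (fp (uf z) f).p (𝟙 (Over.mk r.str)) μ
  let ν₁ : eltObj Er ⟶ eltObj E := inv μ ≫ b
  let ν₀ : eltObj Er ⟶ eltObj E₀ := inv μ ≫ a ≫ c.map (toId _) ≫ μ₀
  exact ⟨Over.mk r.str, (fp (uf z) f).p.map ν₁, (fp (uf z) f).p.map ν₀, Er, ⟨r.K, r.field, r.str, rfl⟩, trivial,
    ehom_of_eltObj_hom ν₁ (IsHomLift.map _ ν₁), ehom_of_eltObj_hom ν₀ (IsHomLift.map _ ν₀)⟩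

local notation "IsAS" => AlgSt.IsAlgStack Scheme.fppfPrecoverage
local notation "IsQcM" => AlgSt.IsQuasiCompactMor Scheme.fppfPrecoverage

/-- Quasi-compactness of morphisms is detected by the classes. -/
theorem isQcM_transfer [QuasiSeparatedSpace S] {𝒳' 𝒴' : AlgSt.Cat S} (h𝒳 : IsAS 𝒳) (h𝒴 : IsAS 𝒴)
    (h𝒳' : IsAS 𝒳') (h𝒴' : IsAS 𝒴') (hqs : AlgSt.IsQuasiSeparatedOver 𝒴') {f : 𝒳 ⥤ᵇ 𝒴} {f' : 𝒳' ⥤ᵇ 𝒴'}
    (φ : FIsoSq f f') (hf : IsQcM f) : IsQcM f' := by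
  haveI := isFibGrpd_of_isAlgStack h𝒳
  haveI := isFibGrpd_of_isAlgStack h𝒴
  haveI := isFibGrpd_of_isAlgStack h𝒳'
  haveI := isFibGrpd_of_isAlgStack h𝒴'
  intro 𝒵 h𝒵 hq g
  haveI := isFibGrpd_of_isAlgStack h𝒵
  obtain ⟨W, c, hW, hc, hcs⟩ := hq
  haveI := hW
  haveI := isFibGrpd_overCat (C := Over S) W
  have hW' := isAlgStack_ofSch W
  haveI := isFibGrpd_of_isAlgStack hW'
  have hWq : AlgSt.IsQuasiCompact (AlgSt.ofSch W) :=
    isQuasiCompact_ofSp (IsAlgSpace.yon_obj W) (AlgSpLib.isQuasiCompactSp_yon W)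
  refine isQuasiCompact_fp_of_cover h𝒳' h𝒴' h𝒵 hW' (BasedFunctor.comp (AlgSt.toOverCat W) c)
    (surjective_of_repByAlgSpWith (repByAlgSpWith_toOverCat_comp hcs)) ?_
  obtain ⟨α⟩ := nonempty_uf_iso (BasedFunctor.comp (BasedFunctor.comp (AlgSt.toOverCat W) c) g)
  generalize Fiber.mk (p := 𝒴'.p)
    (a := (BasedFunctor.comp (BasedFunctor.comp (AlgSt.toOverCat W) c) g).obj ⟨W, ⟨𝟙 W⟩⟩)
    ((BasedFunctor.comp (BasedFunctor.comp (AlgSt.toOverCat W) c) g).w_obj _) = z' at α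
  refine isQuasiCompact_of_equivTo (isAlgStack_fp' hW' h𝒳' h𝒴' (uf z') f') (isAlgStack_fp' hW' h𝒳' h𝒴' _ f')
    (equivTo_fp_congr α.symm (Iso.refl f')) ?_
  let w := ofPoint z'
  let z₀ : 𝒴'.p.Fiber W := Fiber.mk (p := 𝒴'.p) (a := w.obj (Over.mk (𝟙 W))) (w.w_obj _)
  obtain ⟨v, hv⟩ : ∃ v : 𝒴.p.Fiber W, φ.tgt.toEquiv W (cls v) = cls z₀ := by
    obtain ⟨v, hv⟩ := Quotient.exists_rep ((φ.tgt.toEquiv W).symm (cls z₀))
    exact ⟨v, by rw [show cls v = _ from hv, Equiv.apply_symm_apply]⟩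
  obtain ⟨Q, EQ, hQ, hQu⟩ := exists_universal_of_qc (hf _ hW' hWq (uf v))
  have hWc : IsAS (overCat W : AlgSt.Cat S) := isAlgStack_overCat W
  have hwq : IsQcM w := isQcM_of_isQuasiCompact hWc h𝒴' w
    (isQuasiCompact_of_equivTo hW' hWc ⟨_, isEquivOver_toOverCat W⟩ hWq) hqs
  obtain ⟨QR, ER, hQR, hRu⟩ := exists_universal_of_qc (hwq _ hW' hWq (uf z'))
  obtain ⟨bR, E₀, -, hlift⟩ := exists_element_transfer φ w hv EQ (O := IsFld) (C := ⊤) hQu ER hRu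
  haveI := hQ
  haveI := hQR
  have sqL : IsPullback (pullback.fst EQ.base bR).left (pullback.snd EQ.base bR).left EQ.base.left bR.left :=
    (IsPullback.of_hasPullback EQ.base bR).map (Over.forget S)
  haveI : CompactSpace ↥(pullback EQ.base.left bR.left : Scheme.{u}) := inferInstance
  haveI : CompactSpace ↥(pullback EQ.base bR).left := sqL.isoPullback.hom.homeomorph.symm.compactSpace
  haveI : IsFibGrpd (fp (uf z') f').p := isFibGrpd_fp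
  let P₀ := pullback EQ.base bR
  haveI := isFibGrpd_of_isAlgStack (isAlgStack_ofSch P₀)
  let η₀ : (fp (uf z') f').p.Fiber P₀ := Fiber.mk (p := (fp (uf z') f').p) (a := eltObj E₀) rfl
  let F : AlgSt.ofSch P₀ ⥤ᵇ fp (uf z') f' := BasedFunctor.comp (AlgSt.toOverCat P₀) (ofPoint η₀)
  refine isQuasiCompact_of_surjective (isAlgStack_ofSch P₀) (isAlgStack_fp' hW' h𝒳' h𝒴' (uf z') f') F ?_
    (isQuasiCompact_ofSp (IsAlgSpace.yon_obj P₀) (AlgSpLib.isQuasiCompactSp_yon P₀))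
  intro x
  obtain ⟨p, rfl⟩ := AlgSt.Points.mk_surjective x
  obtain ⟨E, μ, hμ⟩ := exists_elt_of_obj' p.obj p.lies
  -- a lift of the identity chart
  let o : Over W := Over.mk E.base
  let Ew : Elt w z' (Over.mk p.str) := ⟨E.base, Fiber.mk (p := (overCat W).p) (a := o) rfl, pbm z' E.base,
    pbm_lift z' E.base⟩
  obtain ⟨T₁, c₁, r₁, E₁, hO₁, -, h₁, h₁'⟩ := hRu _ Ew ⟨p.K, p.field, p.str, rfl⟩
  have hc₁ : c₁ ≫ E.base = r₁ ≫ ER.base := h₁.base_eq.symm.trans h₁'.base_eq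
  obtain ⟨T₃, c₃, r, E₅, ⟨L, _, l, rfl⟩, -, hleft, hright⟩ := hlift _ T₁ E c₁ r₁ hO₁ hc₁
  obtain ⟨φa, hφa⟩ := exists_eltObj_hom hleft
  obtain ⟨φb, hφb⟩ := exists_eltObj_hom hright
  let o₃ : (AlgSt.ofSch P₀).obj := ⟨Over.mk l, ⟨r⟩⟩
  let q : AlgSt.FPt (AlgSt.ofSch P₀) := { K := L, str := l, obj := o₃, lies := rfl }
  let m : F.obj o₃ ⟶ eltObj E₀ := Functor.IsPreFibered.pullbackMap η₀.2 r
  haveI hm : (fp (uf z') f').p.IsHomLift r m :=
    inferInstanceAs ((fp (uf z') f').p.IsHomLift r (Functor.IsPreFibered.pullbackMap η₀.2 r))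
  haveI hb' : (fp (uf z') f').p.IsHomLift r φb := hφb
  let k : eltObj E₅ ⟶ F.obj o₃ := Functor.IsStronglyCartesian.map (fp (uf z') f').p r m (g := 𝟙 (Over.mk l))
    (f' := r) (Category.id_comp r).symm φb
  let q₅ : AlgSt.FPt (fp (uf z') f') := { K := L, str := l, obj := eltObj E₅, lies := rfl }
  let pE : AlgSt.FPt (fp (uf z') f') := { K := p.K, str := p.str, obj := eltObj E, lies := rfl }
  refine ⟨AlgSt.Points.mk q, ?_⟩
  exact (mk_eq_of_hom (p := q₅) (q := q.map F) k).symm.trans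
    ((mk_eq_of_hom (p := q₅) (q := pE) φa).trans (mk_eq_of_hom (p := p) (q := pE) μ).symm)

end IsoNatLib
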